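import Groth.Agent.Lib.FinQuot.Main
import Groth.Agent.Lib.MultType.Basic

/-!
# The quotient of a group scheme by a finite locally free subgroup, on the level of rings

For a commutative Hopf algebra `A` over a ring `R` and a Hopf ideal `I` with `A ⧸ I` finite projective,
the right invariants `inv I` satisfy: `A` is finite projective and faithfully flat over them,
`A ⊗[inv I] A ≃ A ⊗[R] (A ⧸ I)`, and their augmentation ideal generates `I`.
-/

set_option autoImplicit false
set_option maxSynthPendingDepth 3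

universe u v

open TensorProduct WithConv

noncomputable section

namespace Groth.Agent.QuotHopf23

open MultTypeLib

attribute [-instance] AlgHom.convGroup AlgHom.convInv

variable {R : Type u} [CommRing R] {A : Type v} [CommRing A] [HopfAlgebra R A]

/-- The right coaction of the subgroup. -/
abbrev coact (I : Ideal A) : A →ₐ[R] A ⊗[R] (A ⧸ I) :=
  (Algebra.TensorProduct.map (AlgHom.id R A) (Ideal.Quotient.mkₐ R I)).comp (Bialgebra.comulAlgHom R A)

/-- The left factor. -/
abbrev incL (I : Ideal A) : A →ₐ[R] A ⊗[R] (A ⧸ I) := Algebra.TensorProduct.includeLeft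

/-- The invariants under right translation. -/
abbrev inv (R : Type u) [CommRing R] {A : Type v} [CommRing A] [HopfAlgebra R A] (I : Ideal A) :
    Subalgebra R A :=
  AlgHom.equalizer (coact I) (incL I)

variable (I : Ideal A)

theorem coact_eq : (toConv (coact (R := R) I) : WithConv (A →ₐ[R] A ⊗[R] (A ⧸ I))) =
    toConv (incL I) * toConv (Algebra.TensorProduct.includeRight.comp (Ideal.Quotient.mkₐ R I)) :=
  (ι_mul_ι (AlgHom.id R A) (Ideal.Quotient.mkₐ R I)).symm

theorem lift_coact {T : Type*} [CommRing T] [Algebra R T] (g : A →ₐ[R] T) (h : A ⧸ I →ₐ[R] T) :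
    (toConv ((Algebra.TensorProduct.lift g h fun _ _ => .all _ _).comp (coact I)) : WithConv (A →ₐ[R] T)) =
      toConv g * toConv (h.comp (Ideal.Quotient.mkₐ R I)) := by
  set Φ := Algebra.TensorProduct.lift g h fun _ _ => Commute.all _ _
  have e := congrArg (postComp Φ) (coact_eq (R := R) I)
  rw [map_mul] at e
  refine e.trans ?_
  congr 1
  · exact congrArg toConv (AlgHom.ext fun a => by simp [Φ])
  · exact congrArg toConv (AlgHom.ext fun a => by simp [Φ])

theorem invariant {T : Type*} [CommRing T] [Algebra R T] (g h : WithConv (A →ₐ[R] T))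
    (hh : ∀ a ∈ I, h.ofConv a = 0) {c : A} (hc : c ∈ inv R I) : (g * h).ofConv c = g.ofConv c := by
  let h' : A ⧸ I →ₐ[R] T := Ideal.Quotient.liftₐ I h.ofConv hh
  have e : h'.comp (Ideal.Quotient.mkₐ R I) = h.ofConv := AlgHom.ext fun a => rfl
  have e2 := congrArg (fun x : WithConv (A →ₐ[R] T) => x.ofConv c) (lift_coact I g.ofConv h')
  simp only [e, toConv_ofConv] at e2
  rw [← e2, AlgHom.comp_apply, (hc : coact I c = incL I c)]
  simp

section finEqv

variable [I.IsHopfIdeal R]

theorem finEqv : FinQuot.FinEqv (A := A) (B := A ⊗[R] (A ⧸ I)) (coact (R := R) I).toRingHom := by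
  set π := Ideal.Quotient.mkₐ R I
  let Rt : A →ₐ[R] A ⊗[R] (A ⧸ I) := Algebra.TensorProduct.includeRight.comp π
  have hcoact : toConv (coact (R := R) I) = toConv (incL I) * toConv Rt := coact_eq I
  refine ⟨fun {T} _ φ ψ h1 h2 => ?_, ?_, ?_, fun {T} _ φ ψ h => ?_⟩
  · letI : Algebra R T := (φ.comp (algebraMap R (A ⊗[R] (A ⧸ I)))).toAlgebra
    have hR : ψ.comp (algebraMap R (A ⊗[R] (A ⧸ I))) = φ.comp (algebraMap R (A ⊗[R] (A ⧸ I))) := by
      ext r
      have := (RingHom.congr_fun h1 (algebraMap R A r)).symm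
      exact this
    let φ' : A ⊗[R] (A ⧸ I) →ₐ[R] T := { φ with commutes' := fun r => rfl }
    let ψ' : A ⊗[R] (A ⧸ I) →ₐ[R] T := { ψ with commutes' := fun r => RingHom.congr_fun hR r }
    have hL : φ'.comp (incL I) = ψ'.comp (incL I) := AlgHom.ext fun a => RingHom.congr_fun h1 a
    have ht : postComp φ' (toConv (coact (R := R) I)) = postComp ψ' (toConv (coact (R := R) I)) :=
      congrArg toConv (AlgHom.ext fun a => RingHom.congr_fun h2 a)
    rw [hcoact, map_mul, map_mul, show postComp φ' (toConv (incL I)) = postComp ψ' (toConv (incL I)) from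
      congrArg toConv hL] at ht
    have hr := mul_left_cancel ht
    have : φ' = ψ' := by
      refine Algebra.TensorProduct.ext hL ?_
      refine AlgHom.ext fun y => ?_
      obtain ⟨a, rfl⟩ := Ideal.Quotient.mk_surjective y
      exact congrArg (fun x : WithConv (A →ₐ[R] T) => x.ofConv a) hr
    exact RingHom.ext fun z => AlgHom.congr_fun this z
  · let ε' : A ⧸ I →ₐ[R] A := (Algebra.ofId R A).comp (Bialgebra.counitAlgHom R (A ⧸ I))
    let e := Algebra.TensorProduct.lift (AlgHom.id R A) ε' fun _ _ => Commute.all _ _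
    refine ⟨e.toRingHom, RingHom.ext fun a => by simp [e], ?_⟩
    have h := lift_coact I (AlgHom.id R A) ε'
    rw [show (toConv (ε'.comp π) : WithConv (A →ₐ[R] A)) = 1 from rfl, mul_one] at h
    exact RingHom.ext fun a => AlgHom.congr_fun (congrArg WithConv.ofConv h) a
  · let g : A →ₐ[R] A ⊗[R] (A ⧸ I) := coact I
    let h : A ⧸ I →ₐ[R] A ⊗[R] (A ⧸ I) :=
      Algebra.TensorProduct.includeRight.comp (HopfAlgebra.antipodeAlgHom R (A ⧸ I))
    let ι := Algebra.TensorProduct.lift g h fun _ _ => Commute.all _ _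
    refine ⟨ι.toRingHom, RingHom.ext fun a => ?_, RingHom.ext fun a => ?_⟩
    · show ι (a ⊗ₜ[R] 1) = g a
      simp [ι]
    · have h2 : toConv (h.comp π) = (toConv Rt)⁻¹ := by
        rw [MultTypeLib.inv_def]
        refine congrArg toConv (AlgHom.ext fun x => ?_)
        rfl
      have h1 := lift_coact I g h
      rw [h2, show toConv g = toConv (incL I) * toConv Rt from hcoact] at h1
      exact AlgHom.congr_fun (congrArg WithConv.ofConv (h1.trans (mul_inv_cancel_right (toConv (incL (R := R) I)) (toConv Rt)))) a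
  · letI : Algebra R T := (φ.comp (algebraMap R (A ⊗[R] (A ⧸ I)))).toAlgebra
    have hR : ψ.comp (algebraMap R (A ⊗[R] (A ⧸ I))) = φ.comp (algebraMap R (A ⊗[R] (A ⧸ I))) := by
      ext r
      have := RingHom.congr_fun h (algebraMap R A r)
      simp only [RingHom.comp_apply, AlgHom.toRingHom_eq_coe, RingHom.coe_coe, AlgHom.commutes] at this
      exact this.symm
    let φ' : A ⊗[R] (A ⧸ I) →ₐ[R] T := { φ with commutes' := fun r => rfl }
    let ψ' : A ⊗[R] (A ⧸ I) →ₐ[R] T := { ψ with commutes' := fun r => RingHom.congr_fun hR r }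
    let x := φ'.comp (incL I)
    let h1 := φ'.comp (Algebra.TensorProduct.includeRight : A ⧸ I →ₐ[R] A ⊗[R] (A ⧸ I))
    let h2 := ψ'.comp (Algebra.TensorProduct.includeRight : A ⧸ I →ₐ[R] A ⊗[R] (A ⧸ I))
    let h3 : A ⧸ I →ₐ[R] T := (toConv h1 * toConv h2).ofConv
    have hy : postComp φ' (toConv (coact (R := R) I)) = postComp ψ' (toConv (incL I)) :=
      congrArg toConv (AlgHom.ext fun a => RingHom.congr_fun h a)
    have h3' : toConv (h3.comp π) = toConv (h1.comp π) * toConv (h2.comp π) :=
      WithConv.ofConv_injective (AlgHom.convMul_comp_bialgHom_distrib (toConv h1) (toConv h2)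
        (Bialgebra.Quotient.mkBialgHom (R := R) I))
    let χ := Algebra.TensorProduct.lift x h3 fun _ _ => Commute.all _ _
    refine ⟨χ.toRingHom, RingHom.ext fun a => ?_, RingHom.ext fun a => ?_⟩
    · show χ (a ⊗ₜ[R] 1) = φ' (a ⊗ₜ[R] 1)
      simp [χ, x]
    · have e1 := lift_coact I x h3
      rw [h3', ← mul_assoc] at e1
      have e2 : toConv x * toConv (h1.comp π) = postComp φ' (toConv (coact (R := R) I)) := by
        rw [hcoact, map_mul]; rfl
      rw [e2, hy] at e1
      have e3 : postComp ψ' (toConv (incL I)) * toConv (h2.comp π) = postComp ψ' (toConv (coact (R := R) I)) := by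
        rw [hcoact, map_mul]; rfl
      rw [e3] at e1
      exact AlgHom.congr_fun (congrArg WithConv.ofConv e1) a

variable [Module.Finite R (A ⧸ I)] [Module.Projective R (A ⧸ I)]

theorem quotient_aux (S : Subring A)
    (hS : S = RingHom.eqLocus (algebraMap A (A ⊗[R] (A ⧸ I))) (coact (R := R) I).toRingHom) :
    Module.Finite S A ∧ Module.Projective S A ∧ Module.FaithfullyFlat S A ∧
      ∀ f : A ⊗[S] A →+ A ⊗[R] (A ⧸ I),
        (∀ a a' : A, f (a ⊗ₜ a') = (a ⊗ₜ[R] (1 : A ⧸ I)) * coact I a') → Function.Bijective f := by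
  subst hS
  obtain ⟨h1, h2, h3, h4⟩ := FinQuot.quotient (finEqv (R := R) I)
  refine ⟨h1, h2, h3, fun f hf => ?_⟩
  convert h4 using 1
  funext z
  induction z using TensorProduct.induction_on with
  | zero => rw [map_zero]; exact (map_zero _).symm
  | add z w hz hw => rw [map_add, hz, hw]; exact (map_add _ _ _).symm
  | tmul a a' =>
    rw [hf, FinQuot.mulHom_tmul, Algebra.smul_def]
    rfl

omit [Module.Finite R (A ⧸ I)] [Module.Projective R (A ⧸ I)] [I.IsHopfIdeal R] in
theorem inv_toSubring : (inv R I).toSubring =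
    RingHom.eqLocus (algebraMap A (A ⊗[R] (A ⧸ I))) (coact (R := R) I).toRingHom :=
  Subring.ext fun _ => eq_comm

theorem finite_over_inv : Module.Finite ↥(inv R I) A := (quotient_aux I _ (inv_toSubring I)).1

theorem projective_over_inv : Module.Projective ↥(inv R I) A := (quotient_aux I _ (inv_toSubring I)).2.1

theorem faithfullyFlat_over_inv : Module.FaithfullyFlat ↥(inv R I) A :=
  (quotient_aux I _ (inv_toSubring I)).2.2.1

/-- The Galois map. -/
def galois : A ⊗[↥(inv R I)] A →ₐ[A] A ⊗[R] (A ⧸ I) :=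
  Algebra.TensorProduct.lift (Algebra.ofId A _)
    ({ (coact (R := R) I).toRingHom with commutes' := fun c => c.2 } : A →ₐ[↥(inv R I)] A ⊗[R] (A ⧸ I))
    fun _ _ => .all _ _

omit [Module.Finite R (A ⧸ I)] [Module.Projective R (A ⧸ I)] [I.IsHopfIdeal R] in
theorem galois_tmul (a a' : A) :
    galois (R := R) I (a ⊗ₜ a') = (a ⊗ₜ[R] (1 : A ⧸ I)) * coact I a' := by
  rw [galois, Algebra.TensorProduct.lift_tmul]
  rfl

theorem galois_bijective : Function.Bijective (galois (R := R) I) :=
  (quotient_aux I _ (inv_toSubring I)).2.2.2 (galois (R := R) I).toRingHom.toAddMonoidHom (galois_tmul I)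

omit [Module.Finite R (A ⧸ I)] [Module.Projective R (A ⧸ I)] [I.IsHopfIdeal R] in
theorem mk_eq_counit {c : A} (hc : c ∈ inv R I) :
    Ideal.Quotient.mkₐ R I c = algebraMap R (A ⧸ I) (Bialgebra.counitAlgHom R A c) := by
  have h := invariant I (1 : WithConv (A →ₐ[R] A ⧸ I)) (toConv (Ideal.Quotient.mkₐ R I))
    (fun a ha => Ideal.Quotient.eq_zero_iff_mem.2 ha) hc
  rw [one_mul] at h
  exact h

/-- The augmentation ideal of the invariants generates the ideal of the subgroup. -/
theorem augIdeal_eq :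
    Ideal.span {a : A | a ∈ inv R I ∧ CoalgebraStruct.counit (R := R) a = 0} = I := by
  set J := Ideal.span {a : A | a ∈ inv R I ∧ CoalgebraStruct.counit (R := R) a = 0}
  refine le_antisymm (Ideal.span_le.2 fun a ha => Ideal.Quotient.eq_zero_iff_mem.1 ?_) ?_
  · have h := mk_eq_counit I ha.1
    rw [show Bialgebra.counitAlgHom R A a = 0 from ha.2, map_zero] at h
    exact h
  let q := Ideal.Quotient.mkₐ R J
  let εJ : A →ₐ[R] A ⧸ J := (Algebra.ofId R _).comp (Bialgebra.counitAlgHom R A)
  have hεq : ∀ c : A, c ∈ inv R I → q c = εJ c := fun c hc => by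
    refine Ideal.Quotient.eq.2 (Ideal.subset_span ⟨sub_mem hc ?_, ?_⟩)
    · exact Subalgebra.algebraMap_mem _ _
    · have e : ∀ x : A, CoalgebraStruct.counit (R := R) x = Bialgebra.counitAlgHom R A x := fun _ => rfl
      rw [e, map_sub, AlgHom.commutes]
      exact sub_self _
  letI : Algebra ↥(inv R I) (A ⧸ J) := inferInstance
  let G : A ⊗[↥(inv R I)] A →ₐ[↥(inv R I)] A ⧸ J :=
    Algebra.TensorProduct.lift
      ({ εJ.toRingHom with commutes' := fun c => (hεq c c.2).symm } : A →ₐ[↥(inv R I)] A ⧸ J)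
      ({ q.toRingHom with commutes' := fun c => rfl } : A →ₐ[↥(inv R I)] A ⧸ J) fun _ _ => .all _ _
  let e := RingEquiv.ofBijective (galois (R := R) I).toRingHom (galois_bijective I)
  let F : A ⊗[R] (A ⧸ I) →+* A ⧸ J := G.toRingHom.comp e.symm.toRingHom
  have hF : ∀ z, F (galois (R := R) I z) = G z := fun z => congrArg G (e.symm_apply_apply z)
  have hFL : ∀ a, F (incL I a) = εJ a := fun a => by
    have h1 : galois (R := R) I (a ⊗ₜ 1) = incL I a := by
      rw [galois_tmul, map_one, mul_one]; rfl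
    rw [← h1, hF]
    exact (Algebra.TensorProduct.lift_tmul _ _ _ _ _).trans (by rw [map_one, mul_one]; rfl)
  have hFt : ∀ a, F (coact I a) = q a := fun a => by
    have h1 : galois (R := R) I (1 ⊗ₜ a) = coact I a := by
      rw [galois_tmul, ← Algebra.TensorProduct.one_def, one_mul]
    rw [← h1, hF]
    exact (Algebra.TensorProduct.lift_tmul _ _ _ _ _).trans (by rw [map_one, one_mul]; rfl)
  have hFR : ∀ r, F (algebraMap R (A ⊗[R] (A ⧸ I)) r) = algebraMap R (A ⧸ J) r := fun r => by
    have h := hFL (algebraMap R A r)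
    rw [AlgHom.commutes, AlgHom.commutes] at h
    exact h
  let F' : A ⊗[R] (A ⧸ I) →ₐ[R] A ⧸ J := { F with commutes' := hFR }
  intro x hx
  have h1 : postComp F' (toConv (coact (R := R) I)) = toConv q := congrArg toConv (AlgHom.ext hFt)
  rw [coact_eq, map_mul, show postComp F' (toConv (incL I)) = 1 from congrArg toConv (AlgHom.ext hFL),
    one_mul] at h1
  refine Ideal.Quotient.eq_zero_iff_mem.1 ?_
  show q x = 0
  rw [← show _ = q x from congrArg (fun p : WithConv (A →ₐ[R] A ⧸ J) => p.ofConv x) h1]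
  show F (Algebra.TensorProduct.includeRight (Ideal.Quotient.mkₐ R I x)) = 0
  rw [show Ideal.Quotient.mkₐ R I x = 0 from Ideal.Quotient.eq_zero_iff_mem.2 hx, map_zero, map_zero]

/-- A retraction onto the invariants. -/
theorem exists_retraction : ∃ r : A →ₗ[↥(inv R I)] ↥(inv R I), ∀ c : ↥(inv R I), r c = c := by
  haveI := finite_over_inv (R := R) I
  haveI := projective_over_inv (R := R) I
  haveI := faithfullyFlat_over_inv (R := R) I
  obtain ⟨n, f, g, -, -, hfg⟩ := Module.Finite.exists_comp_eq_id_of_projective ↥(inv R I) A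
  let M : Ideal ↥(inv R I) := Ideal.span (Set.range (g (1 : A)))
  have h1 : (1 : A) ∈ M • (⊤ : Submodule ↥(inv R I) A) := by
    rw [show (1 : A) = ∑ i, g 1 i • f (Pi.single i 1) from
      (LinearMap.congr_fun hfg 1).symm.trans ((congrArg f (pi_eq_sum_univ' (g 1))).trans (by simp))]
    exact sum_mem fun i _ => Submodule.smul_mem_smul (Ideal.subset_span ⟨i, rfl⟩) trivial
  have hM : M = ⊤ := by
    by_contra hne
    obtain ⟨m, hm, hle⟩ := Ideal.exists_le_maximal M hne
    refine Module.FaithfullyFlat.submodule_ne_top (M := A) hm ?_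
    rw [Ideal.smul_top_eq_map, Submodule.restrictScalars_eq_top_iff, Ideal.eq_top_iff_one]
    have := Submodule.smul_mono_left hle h1
    rwa [Ideal.smul_top_eq_map, Submodule.restrictScalars_mem] at this
  obtain ⟨w, hw⟩ := Ideal.mem_span_range_iff_exists_fun.1 (hM ▸ Submodule.mem_top : (1 : ↥(inv R I)) ∈ M)
  refine ⟨(Fintype.linearCombination ↥(inv R I) w) ∘ₗ g, fun c => ?_⟩
  have hc : (c : A) = c • (1 : A) := (mul_one (c : A)).symm
  rw [LinearMap.comp_apply, hc, map_smul, map_smul, Fintype.linearCombination_apply]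
  simp only [smul_eq_mul, mul_comm (g 1 _)]
  rw [hw, mul_one]

theorem projective_inv [Module.Projective R A] : Module.Projective R ↥(inv R I) := by
  obtain ⟨r, hr⟩ := exists_retraction (R := R) I
  exact Module.Projective.of_split (inv R I).val.toLinearMap (r.restrictScalars R) (LinearMap.ext hr)

theorem finite_inv [Module.Finite R A] : Module.Finite R ↥(inv R I) := by
  obtain ⟨r, hr⟩ := exists_retraction (R := R) I
  exact Module.Finite.of_surjective (r.restrictScalars R) fun c => ⟨c, hr c⟩

end finEqv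

section sub

theorem antipode_antipode (a : A) : HopfAlgebra.antipodeAlgHom R A (HopfAlgebra.antipodeAlgHom R A a) = a :=
  congrArg (fun x : WithConv (A →ₐ[R] A) => x.ofConv a) (inv_inv (toConv (AlgHom.id R A)))

theorem comul_antipode (a : A) : Bialgebra.comulAlgHom R A (HopfAlgebra.antipodeAlgHom R A a) =
    Algebra.TensorProduct.comm R A A (Algebra.TensorProduct.map (HopfAlgebra.antipodeAlgHom R A)
      (HopfAlgebra.antipodeAlgHom R A) (Bialgebra.comulAlgHom R A a)) := by
  set S := HopfAlgebra.antipodeAlgHom R A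
  let l : A →ₐ[R] A ⊗[R] A := Algebra.TensorProduct.includeLeft
  let r : A →ₐ[R] A ⊗[R] A := Algebra.TensorProduct.includeRight
  have hΔ : toConv (Bialgebra.comulAlgHom R A) = toConv l * toConv r := by
    have := ι_mul_ι (R := R) (AlgHom.id R A) (AlgHom.id R A)
    rw [Algebra.TensorProduct.map_id] at this
    exact this.symm
  have h1 : toConv ((Bialgebra.comulAlgHom R A).comp S) = (toConv r)⁻¹ * (toConv l)⁻¹ := by
    rw [← mul_inv_rev, ← hΔ]; rfl
  have h2 : toConv ((Algebra.TensorProduct.comm R A A : A ⊗[R] A →ₐ[R] A ⊗[R] A).comp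
      ((Algebra.TensorProduct.map S S).comp (Bialgebra.comulAlgHom R A))) = (toConv r)⁻¹ * (toConv l)⁻¹ := by
    have e := congrArg (postComp (Algebra.TensorProduct.comm R A A : A ⊗[R] A →ₐ[R] A ⊗[R] A))
      (ι_mul_ι S S)
    rw [map_mul] at e
    refine e.symm.trans ?_
    congr 1
  exact AlgHom.congr_fun (congrArg WithConv.ofConv (h1.trans h2.symm)) a

/-- The normality of the subgroup, in terms of points. -/
def IsNormal (R : Type u) [CommRing R] {A : Type v} [CommRing A] [HopfAlgebra R A] (I : Ideal A) : Prop :=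
  ∀ (T : Type v) [CommRing T] [Algebra R T] (g h : WithConv (A →ₐ[R] T)),
    (∀ a ∈ I, h.ofConv a = 0) → ∀ a ∈ I, (g * h * g⁻¹).ofConv a = 0

variable [I.IsHopfIdeal R]

theorem antipode_mem (hN : IsNormal R I) {c : A} (hc : c ∈ inv R I) :
    HopfAlgebra.antipodeAlgHom R A c ∈ inv R I := by
  show coact I (HopfAlgebra.antipodeAlgHom R A c) = incL I (HopfAlgebra.antipodeAlgHom R A c)
  have key : ∀ {G : Type v} [Group G] (a b : G), (a * b)⁻¹ = a⁻¹ * (a * b⁻¹ * a⁻¹) := fun a b => by group
  let g := toConv (incL (R := R) I)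
  let h := toConv ((Algebra.TensorProduct.includeRight : A ⧸ I →ₐ[R] A ⊗[R] (A ⧸ I)).comp
    (Ideal.Quotient.mkₐ R I))
  have hh : ∀ a ∈ I, h.ofConv a = 0 := fun a ha => by
    show Algebra.TensorProduct.includeRight (Ideal.Quotient.mkₐ R I a) = 0
    rw [show Ideal.Quotient.mkₐ R I a = 0 from Ideal.Quotient.eq_zero_iff_mem.2 ha, map_zero]
  have hh' : ∀ a ∈ I, h⁻¹.ofConv a = 0 := fun a ha => hh _ (Ideal.IsHopfIdeal.antipode_mem ha)
  calc coact I (HopfAlgebra.antipodeAlgHom R A c) = (toConv (coact (R := R) I))⁻¹.ofConv c := rfl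
    _ = (g⁻¹ * (g * h⁻¹ * g⁻¹)).ofConv c := by
      rw [coact_eq]
      exact congrArg (fun x : WithConv (A →ₐ[R] A ⊗[R] (A ⧸ I)) => x.ofConv c) (key g h)
    _ = g⁻¹.ofConv c := invariant I _ _ (hN _ g h⁻¹ hh') hc
    _ = _ := rfl

variable [Module.Finite R (A ⧸ I)] [Module.Projective R (A ⧸ I)] [Module.Flat R A]

omit [Module.Finite R (A ⧸ I)] [Module.Projective R (A ⧸ I)] [I.IsHopfIdeal R] in
theorem comul_mem_lTensor {c : A} (hc : c ∈ inv R I) :
    Bialgebra.comulAlgHom R A c ∈ LinearMap.range ((inv R I).val.toLinearMap.lTensor A) := by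
  let d : A →ₗ[R] A ⊗[R] (A ⧸ I) := (coact (R := R) I).toLinearMap - (incL (R := R) I).toLinearMap
  have hex : Function.Exact (inv R I).val.toLinearMap d := fun x =>
    ⟨fun hx => ⟨⟨x, sub_eq_zero.1 (hx : coact (R := R) I x - incL I x = 0)⟩, rfl⟩,
      fun ⟨y, hy⟩ => by rw [← hy]; exact (sub_eq_zero.2 y.2 : coact (R := R) I (y : A) - incL I (y : A) = 0)⟩
  refine (Module.Flat.lTensor_exact A hex (Bialgebra.comulAlgHom R A c)).1 ?_
  rw [LinearMap.lTensor_sub, LinearMap.sub_apply, sub_eq_zero]
  change Algebra.TensorProduct.map (AlgHom.id R A) (coact I) (Bialgebra.comulAlgHom R A c) =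
    Algebra.TensorProduct.map (AlgHom.id R A) (incL I) (Bialgebra.comulAlgHom R A c)
  have e1 := congrArg (fun x : WithConv (A →ₐ[R] A ⊗[R] (A ⊗[R] (A ⧸ I))) => x.ofConv c)
    (ι_mul_ι (AlgHom.id R A) (coact (R := R) I))
  have e2 := congrArg (fun x : WithConv (A →ₐ[R] A ⊗[R] (A ⊗[R] (A ⧸ I))) => x.ofConv c)
    (ι_mul_ι (AlgHom.id R A) (incL (R := R) I))
  refine e1.symm.trans (Eq.trans ?_ e2)
  let j : A ⊗[R] (A ⧸ I) →ₐ[R] A ⊗[R] (A ⊗[R] (A ⧸ I)) := Algebra.TensorProduct.includeRight
  let j₂ : A →ₐ[R] A ⊗[R] (A ⧸ I) := Algebra.TensorProduct.includeRight.comp (Ideal.Quotient.mkₐ R I)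
  have e3 : toConv (j.comp (coact I)) = toConv (j.comp (incL I)) * toConv (j.comp j₂) := by
    have := congrArg (postComp j) (coact_eq (R := R) I)
    rw [map_mul] at this
    exact this
  show (_ * toConv (j.comp (coact I))).ofConv c = (_ * toConv (j.comp (incL I))).ofConv c
  rw [e3, ← mul_assoc]
  refine invariant I _ _ (fun a ha => ?_) hc
  show j (Algebra.TensorProduct.includeRight (Ideal.Quotient.mkₐ R I a)) = 0
  rw [show Ideal.Quotient.mkₐ R I a = 0 from Ideal.Quotient.eq_zero_iff_mem.2 ha, map_zero, map_zero]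

theorem comul_mem (hN : IsNormal R I) {c : A} (hc : c ∈ inv R I) :
    Bialgebra.comulAlgHom R A c ∈
      LinearMap.range (TensorProduct.map (inv R I).val.toLinearMap (inv R I).val.toLinearMap) := by
  obtain ⟨r, hr⟩ := exists_retraction (R := R) I
  let ι := (inv R I).val.toLinearMap
  let r' : A →ₗ[R] ↥(inv R I) := r.restrictScalars R
  have hr' : r' ∘ₗ ι = LinearMap.id := LinearMap.ext hr
  set S := HopfAlgebra.antipodeAlgHom R A
  let S' : ↥(inv R I) →ₗ[R] ↥(inv R I) :=
    (S.toLinearMap ∘ₗ ι).codRestrict (Subalgebra.toSubmodule (inv R I)) fun x => antipode_mem I hN x.2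
  obtain ⟨z, hz⟩ := comul_mem_lTensor I hc
  obtain ⟨w, hw⟩ := comul_mem_lTensor I (antipode_mem I hN hc)
  have hw' : ι.rTensor A (TensorProduct.comm R A ↥(inv R I) (TensorProduct.map S.toLinearMap S' w)) =
      Bialgebra.comulAlgHom R A c := by
    conv_rhs => rw [← antipode_antipode (R := R) c, comul_antipode, ← hw]
    clear hw
    induction w using TensorProduct.induction_on with
    | zero => simp
    | add u v hu hv => simp only [map_add, hu, hv]
    | tmul a b => rfl
  have hl : (ι ∘ₗ r').rTensor A (Bialgebra.comulAlgHom R A c) = Bialgebra.comulAlgHom R A c := by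
    rw [← hw', ← LinearMap.rTensor_comp_apply, LinearMap.comp_assoc, hr', LinearMap.comp_id]
  refine ⟨r'.rTensor _ z, ?_⟩
  conv_rhs => rw [← hl, ← hz]
  clear hz
  induction z using TensorProduct.induction_on with
  | zero => simp
  | add u v hu hv => simp only [map_add, hu, hv]
  | tmul a b => rfl

end sub

section etale

variable [I.IsHopfIdeal R] [Module.Finite R (A ⧸ I)] [Module.Projective R (A ⧸ I)]

/-- The invariants of an open subgroup are unramified. -/
theorem formallyUnramified_inv {e : A} (he : IsIdempotentElem e) (hI : I = Ideal.span {e}) :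
    Algebra.FormallyUnramified R ↥(inv R I) := by
  classical
  set C := inv R I with hC
  obtain ⟨r, hr⟩ : ∃ r : A →ₗ[↥C] ↥C, ∀ c : ↥C, r c = c := exists_retraction (R := R) I
  set π := Ideal.Quotient.mkₐ R I
  let l : A →ₐ[R] A ⊗[R] A := Algebra.TensorProduct.includeLeft
  let rt : A →ₐ[R] A ⊗[R] A := Algebra.TensorProduct.includeRight
  let s : A ⊗[R] A →ₐ[R] A ⊗[R] A := Algebra.TensorProduct.lift l (Bialgebra.comulAlgHom R A) fun _ _ => .all _ _
  let s' : A ⊗[R] A →ₐ[R] A ⊗[R] A :=
    Algebra.TensorProduct.lift l ((toConv l)⁻¹ * toConv rt).ofConv fun _ _ => .all _ _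
  have hΔ : toConv (Bialgebra.comulAlgHom R A) = toConv l * toConv rt := by
    have := ι_mul_ι (R := R) (AlgHom.id R A) (AlgHom.id R A)
    rw [Algebra.TensorProduct.map_id] at this
    exact this.symm
  have hl : s.comp l = l := AlgHom.ext fun a => by simp [s, l]
  have hl' : s'.comp l = l := AlgHom.ext fun a => by simp [s', l]
  have hsr : postComp s (toConv rt) = toConv (Bialgebra.comulAlgHom R A) :=
    congrArg toConv (AlgHom.ext fun a => by simp [s, rt, l])
  have hs'r : postComp s' (toConv rt) = (toConv l)⁻¹ * toConv rt :=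
    WithConv.ofConv_injective (AlgHom.ext fun a => by simp [s', rt, l, postComp_apply])
  have hss' : s.comp s' = AlgHom.id R _ := by
    refine Algebra.TensorProduct.ext (AlgHom.ext fun a => ?_) (AlgHom.ext fun a => ?_)
    · exact (congrArg s (AlgHom.congr_fun hl' a)).trans (AlgHom.congr_fun hl a)
    · have h : postComp (s.comp s') (toConv rt) = toConv rt := by
        rw [postComp_comp, hs'r, map_mul, map_inv, hsr, hΔ,
          show postComp s (toConv l) = toConv l from congrArg toConv hl, inv_mul_cancel_left]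
      exact congrArg (fun x : WithConv (A →ₐ[R] A ⊗[R] A) => x.ofConv a) h
  have hs's : s'.comp s = AlgHom.id R _ := by
    refine Algebra.TensorProduct.ext (AlgHom.ext fun a => ?_) (AlgHom.ext fun a => ?_)
    · exact (congrArg s' (AlgHom.congr_fun hl a)).trans (AlgHom.congr_fun hl' a)
    · have h : postComp (s'.comp s) (toConv rt) = toConv rt := by
        rw [postComp_comp, hsr, hΔ, map_mul, hs'r,
          show postComp s' (toConv l) = toConv l from congrArg toConv hl', mul_inv_cancel_left]
      exact congrArg (fun x : WithConv (A →ₐ[R] A ⊗[R] A) => x.ofConv a) h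
  let f := s' ((1 : A) ⊗ₜ[R] e)
  have hf : IsIdempotentElem f := by
    refine IsIdempotentElem.map ?_ s'
    show ((1 : A) ⊗ₜ[R] e) * ((1 : A) ⊗ₜ[R] e) = _
    rw [Algebra.TensorProduct.tmul_mul_tmul, one_mul, he.eq]
  let Φ : A ⊗[R] A →ₐ[R] A ⊗[R] (A ⧸ I) := (Algebra.TensorProduct.map (AlgHom.id R A) π).comp s
  have hker : ∀ z, Φ z = 0 → z ∈ Ideal.span {f} := by
    intro z hz
    have h1 : s z ∈ Ideal.map (Algebra.TensorProduct.includeRight : A →ₐ[R] A ⊗[R] A) I := by
      have h2 := Algebra.TensorProduct.lTensor_ker (A := A) π (Ideal.Quotient.mkₐ_surjective R I)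
      rw [show RingHom.ker π = I from Ideal.Quotient.mkₐ_ker R I] at h2
      rw [← h2]
      exact hz
    rw [hI, Ideal.map_span, Set.image_singleton, Ideal.mem_span_singleton'] at h1
    obtain ⟨w, hw⟩ := h1
    rw [Ideal.mem_span_singleton']
    refine ⟨s' w, ?_⟩
    have := congrArg s' hw
    rw [map_mul] at this
    exact this.trans (AlgHom.congr_fun hs's z)
  have hΦf : Φ f = 0 := by
    show Algebra.TensorProduct.map (AlgHom.id R A) π (s (s' _)) = 0
    rw [← AlgHom.comp_apply s s', hss', AlgHom.id_apply, Algebra.TensorProduct.map_tmul,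
      show π e = 0 from Ideal.Quotient.eq_zero_iff_mem.2 (hI ▸ Ideal.mem_span_singleton_self e),
      TensorProduct.tmul_zero]
  let ι : ↥C ⊗[R] ↥C →ₐ[R] A ⊗[R] A := Algebra.TensorProduct.map C.val C.val
  set K := RingHom.ker (Algebra.TensorProduct.lmul' R (S := ↥C))
  have hΦtmul : ∀ a a', Φ (a ⊗ₜ[R] a') = (a ⊗ₜ[R] (1 : A ⧸ I)) * coact I a' := fun a a' => by
    show Algebra.TensorProduct.map (AlgHom.id R A) π (s (a ⊗ₜ[R] a')) = _
    simp only [s, l, Algebra.TensorProduct.lift_tmul, map_mul, Algebra.TensorProduct.includeLeft_apply,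
      Algebra.TensorProduct.map_tmul, AlgHom.id_apply, map_one]
    rfl
  have hΦι : ∀ z, Φ (ι z) = incL I ((Algebra.TensorProduct.lmul' R (S := ↥C) z : ↥C) : A) := fun z => by
    induction z using TensorProduct.induction_on with
    | zero => simp
    | add u v hu hv => simp only [map_add, hu, hv, Subalgebra.coe_add]
    | tmul a b =>
      simp only [ι, Algebra.TensorProduct.map_tmul, hΦtmul, Algebra.TensorProduct.lmul'_apply_tmul]
      rw [show coact I (C.val b) = incL I (b : A) from b.2]
      show _ * ((b : A) ⊗ₜ[R] (1 : A ⧸ I)) = _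
      rw [Algebra.TensorProduct.tmul_mul_tmul, one_mul]
      rfl
  have hKA : K.map ι ≤ Ideal.span {f} := Ideal.map_le_iff_le_comap.2 fun x hx => hker _ (by
    rw [hΦι, show Algebra.TensorProduct.lmul' R (S := ↥C) x = 0 from hx]; simp)
  have hfK : f ∈ K.map ι := by
    let Q := (A ⊗[R] A) ⧸ K.map ι
    let q := Ideal.Quotient.mkₐ R (K.map ι)
    have hc : ∀ c : ↥C, q ((c : A) ⊗ₜ[R] 1) = q (1 ⊗ₜ[R] (c : A)) := fun c => by
      refine Ideal.Quotient.eq.2 ?_
      have : c ⊗ₜ[R] (1 : ↥C) - 1 ⊗ₜ[R] c ∈ K := by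
        show Algebra.TensorProduct.lmul' R (S := ↥C) _ = 0
        simp
      simpa [ι] using Ideal.mem_map_of_mem ι this
    let q2 : A →+ A →+ Q :=
      AddMonoidHom.mk' (fun a => AddMonoidHom.mk' (fun a' => q (a ⊗ₜ[R] a'))
          fun x y => by rw [TensorProduct.tmul_add, map_add])
        fun x y => AddMonoidHom.ext fun a' => by simp [TensorProduct.add_tmul]
    let H : A ⊗[↥C] A →+ Q := TensorProduct.liftAddHom q2 fun c a a' => by
      show q (((c : A) * a) ⊗ₜ[R] a') = q (a ⊗ₜ[R] ((c : A) * a'))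
      have := congrArg (q (a ⊗ₜ[R] a') * ·) (hc c)
      rw [← map_mul, ← map_mul, Algebra.TensorProduct.tmul_mul_tmul, Algebra.TensorProduct.tmul_mul_tmul,
        mul_one, mul_one, mul_comm a, mul_comm a'] at this
      exact this
    let e' := RingEquiv.ofBijective (galois (R := R) I).toRingHom (galois_bijective I)
    have hΦH : ∀ z, H (e'.symm (Φ z)) = q z := fun z => by
      induction z using TensorProduct.induction_on with
      | zero => simp
      | add u v hu hv => simp only [map_add, hu, hv]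
      | tmul a a' =>
        rw [hΦtmul, show (a ⊗ₜ[R] (1 : A ⧸ I)) * coact I a' = e' (a ⊗ₜ a') from (galois_tmul I a a').symm,
          e'.symm_apply_apply]
        rfl
    have := hΦH f
    rw [hΦf, map_zero, map_zero] at this
    exact Ideal.Quotient.eq_zero_iff_mem.1 this.symm
  let r' : A →ₗ[R] ↥C := r.restrictScalars R
  have hproj : ∀ (u : A ⊗[R] A) (k : ↥C ⊗[R] ↥C),
      TensorProduct.map r' r' (u * ι k) = TensorProduct.map r' r' u * k := fun u k => by
    induction k using TensorProduct.induction_on with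
    | zero => simp
    | add a b ha hb => simp only [map_add, mul_add, ha, hb]
    | tmul a b =>
      induction u using TensorProduct.induction_on with
      | zero => simp
      | add x y hx hy => simp only [map_add, add_mul, hx, hy]
      | tmul x y =>
        simp only [ι, Algebra.TensorProduct.map_tmul, Algebra.TensorProduct.tmul_mul_tmul,
          TensorProduct.map_tmul]
        have hm : ∀ (x : A) (a : ↥C), r' (x * C.val a) = r' x * a := fun x a => by
          show r (x * (a : A)) = r x * a
          rw [mul_comm x, show (a : A) * x = a • x from rfl, map_smul, smul_eq_mul, mul_comm]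
        rw [hm, hm]
  have hιr : ∀ k, TensorProduct.map r' r' (ι k) = k := fun k => by
    have := hproj 1 k
    rw [one_mul, Algebra.TensorProduct.one_def, TensorProduct.map_tmul] at this
    have h1 : r' 1 = 1 := by
      show r (1 : A) = 1
      exact (congrArg r (OneMemClass.coe_one C).symm).trans (hr 1)
    rw [this, h1, ← Algebra.TensorProduct.one_def, one_mul]
  have hK : IsIdempotentElem K := by
    refine le_antisymm Ideal.mul_le_right fun x hx => ?_
    have hx' : ι x ∈ (K * K).map ι := by
      rw [Ideal.map_mul]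
      obtain ⟨w, hw⟩ := Ideal.mem_span_singleton'.1 (hKA (Ideal.mem_map_of_mem ι hx))
      rw [← hw, ← hf.eq, ← mul_assoc]
      exact Ideal.mul_mem_mul (Ideal.mul_mem_left _ _ hfK) hfK
    have key : ∀ y ∈ Ideal.span (ι '' ↑(K * K)), ∀ u, TensorProduct.map r' r' (u * y) ∈ K * K := by
      intro y hy
      induction hy using Submodule.span_induction with
      | mem y hy =>
        obtain ⟨k, hk, rfl⟩ := hy
        intro u
        rw [hproj]
        exact Ideal.mul_mem_left _ _ hk
      | zero => intro u; rw [mul_zero, map_zero]; exact zero_mem _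
      | add a b _ _ ha hb => intro u; rw [mul_add, map_add]; exact add_mem (ha u) (hb u)
      | smul a b _ hb => intro u; rw [smul_eq_mul, ← mul_assoc]; exact hb _
    rw [← hιr x]
    have := key _ hx' 1
    rwa [one_mul] at this
  constructor
  show Subsingleton (KaehlerDifferential.ideal R ↥C).Cotangent
  exact (Ideal.cotangent_subsingleton_iff _).2 hK

end etale

end Groth.Agent.QuotHopf23
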